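import Groth.Agent.KodV.K850.FrobSeq
import Groth.Agent.CurvesB.HZero

/-!
# `H¹(X, E) → H¹(X, F_* F^* E)` is injective if `H⁰(X, F^* E ⊗ Ω) = 0`
-/

set_option autoImplicit false
universe u
open CategoryTheory CategoryTheory.Limits AlgebraicGeometry Opposite TopologicalSpace

namespace K850.FrobInj

open Groth.Agent Groth.Agent.Ega2.Tens Groth.Agent.CohqB

variable {k : Type u} [Field k] (p : ℕ) [Fact p.Prime] {X : Scheme.{u}}
  (f : X ⟶ Spec (CommRingCat.of k)) [QuasiCompact (pullback.diagonal f)] [FrobSch.IsCharP X p]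

/-- global sections of `M` vanish if `H⁰` does -/
theorem sec_subsingleton (M : X.Modules) (h : Subsingleton (Coh.HH X M 0)) :
    Subsingleton Γ(M, ⊤) :=
  (CurvesB.HZero.equivAdd M).symm.toEquiv.subsingleton

theorem hh_subsingleton (M : X.Modules) (h : Subsingleton Γ(M, ⊤)) :
    Subsingleton (Coh.HH X M 0) :=
  (CurvesB.HZero.equivAdd M).toEquiv.subsingleton

/-- `H¹(E ⊗ A) → H¹(E ⊗ B)` is injective for an exact sequence `0 → A → B → C` with
`Γ(E ⊗ C) = 0`. -/
theorem injective_tmap_of_exact {A B C : X.Modules} (q : A ⟶ B) (d : B ⟶ C) (w : q ≫ d = 0)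
    [hm : Mono q] (hex : (ShortComplex.mk q d w).Exact)
    (E : X.Modules) (hE : FlatMod.IsFinLocFree E)
    (h1 : Subsingleton Γ(CohB1.tensorMod E C, ⊤)) :
    Function.Injective (HSeqMod.hmap (Sga67.ExtSheaf.tmap E q) 1) := by
  have hS : (ShortComplex.mk q (cokernel.π q) (cokernel.condition q)).ShortExact :=
    { exact := ShortComplex.exact_cokernel q
      mono_f := hm
      epi_g := inferInstanceAs (Epi (cokernel.π q)) }
  have hT := Sga67.TensorOps.tensor_shortExact hE hS
  have hψ : Mono (cokernel.desc q d w) := (ShortComplex.exact_iff_mono_cokernel_desc _).1 hex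
  have hψ' := Sga67.TensorOps.mono_tmap hE (cokernel.desc q d w)
  have h2 : Subsingleton Γ(CohB1.tensorMod E (cokernel q), ⊤) :=
    Function.Injective.subsingleton (VarietyB.ExactLoc.app_injective_of_mono
      (Sga67.ExtSheaf.tmap E (cokernel.desc q d w)) ⊤)
  have h3 := hh_subsingleton _ h2
  rw [injective_iff_map_eq_zero]
  intro x hx
  obtain ⟨y, hy⟩ := HSeqMod.exact₁ hT 0 x hx
  have h4 : y = 0 := h3.elim _ _
  rw [← hy, h4]
  exact map_zero (HSeqMod.δ hT 0)

theorem subsingleton_push {Z : Scheme.{u}} (g : Z ⟶ X) (M : Z.Modules)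
    (h : Subsingleton Γ(M, ⊤)) : Subsingleton Γ((Scheme.Modules.pushforward g).obj M, ⊤) := h

theorem subsingleton_of_iso {M N : X.Modules} (e : M ≅ N) (h : Subsingleton Γ(N, ⊤)) :
    Subsingleton Γ(M, ⊤) :=
  Function.Injective.subsingleton (VarietyB.ExactLoc.app_injective_of_mono e.hom ⊤)

/-- `H¹(E) → H¹(E ⊗ F_* O)` is injective -/
theorem injective_tmap [CharP k p] [PerfectRing k p] [IsReduced X] (hX : Pi1.IsNormalScheme X)
    (E : X.Modules) (hE : FlatMod.IsFinLocFree E)
    (h0 : Subsingleton (Coh.HH X (CohB1.tensorMod ((Scheme.Modules.pullback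
      (FrobSch.frob X p)).obj E) (Omega.sheaf f)) 0)) :
    Function.Injective (HSeqMod.hmap
      (Sga67.ExtSheaf.tmap E (FormalA.ThickSurj.qmap (FrobSch.frob X p))) 1) := by
  have hm := FrobSeq.mono_qmap p (X := X)
  have hex := FrobSeq.exact_seq p f hX
  have hE' := VarietyB.TensCoh.HasBases.of_isFinLocFree hE
  exact injective_tmap_of_exact _ _ _ hex E hE (subsingleton_of_iso
    (VarietyB.ProjForm.projIso (FrobSch.frob X p) hE' (Omega.sheaf f))
    (subsingleton_push _ _ (sec_subsingleton _ h0)))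

theorem hmap_injective_of_iso {M N : X.Modules} (e : M ≅ N) (n : ℕ) :
    Function.Injective (HSeqMod.hmap e.hom n) := by
  intro x y h
  have h1 := congrArg (HSeqMod.hmap e.inv n) h
  rw [← HSeqMod.hmap_comp_apply, ← HSeqMod.hmap_comp_apply, e.hom_inv_id,
    HSeqMod.hmap_id_apply, HSeqMod.hmap_id_apply] at h1
  exact h1

theorem injective_unit [CharP k p] [PerfectRing k p] [IsReduced X] (hX : Pi1.IsNormalScheme X)
    (E : X.Modules) (hE : FlatMod.IsFinLocFree E)
    (h0 : Subsingleton (Coh.HH X (CohB1.tensorMod ((Scheme.Modules.pullback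
      (FrobSch.frob X p)).obj E) (Omega.sheaf f)) 0)) :
    Function.Injective (HSeqMod.hmap
      ((Scheme.Modules.pullbackPushforwardAdjunction (FrobSch.frob X p)).unit.app E) 1) := by
  have hE' := VarietyB.TensCoh.HasBases.of_isFinLocFree hE
  have h1 := injective_tmap p f hX E hE h0
  have h2 := FormalA.ThickSurj.tmap_qmap (FrobSch.frob X p) E hE'
  intro x y hxy
  apply hmap_injective_of_iso (runit E).symm 1
  apply h1
  apply hmap_injective_of_iso (VarietyB.ProjForm.projIsoUnit (FrobSch.frob X p) hE') 1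
  rw [← HSeqMod.hmap_comp_apply, ← HSeqMod.hmap_comp_apply, ← HSeqMod.hmap_comp_apply,
    ← HSeqMod.hmap_comp_apply]
  have h3 : (runit E).symm.hom ≫ Sga67.ExtSheaf.tmap E
      (FormalA.ThickSurj.qmap (FrobSch.frob X p)) ≫
      (VarietyB.ProjForm.projIsoUnit (FrobSch.frob X p) hE').hom =
      (Scheme.Modules.pullbackPushforwardAdjunction (FrobSch.frob X p)).unit.app E := by
    rw [h2]
    exact Iso.inv_hom_id_assoc _ _
  rw [h3]
  exact hxy

end K850.FrobInj
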