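import Groth.Prelude.Def_Frob
import Groth.Agent.Smoothlim.PowSec
import Groth.Agent.VarietyB.LiftInvFinal
import Groth.Agent.FormalA.ThickSurj

/-!
# `F^* L ≅ L^{⊗ p}` for the absolute Frobenius and an invertible module
-/

set_option autoImplicit false
universe u
open CategoryTheory CategoryTheory.Limits AlgebraicGeometry Opposite TopologicalSpace

namespace K850.FrobPow

open Groth.Agent Groth.Agent.Ega2.Tens Groth.Agent.Ega4dA.GenSec Groth.Agent.Smoothlim.PowSec

variable (p : ℕ) [Fact p.Prime] {X : Scheme.{u}} [FrobSch.IsCharP X p]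

theorem add_pow_char_app (U : X.Opens) (a b : Γ(X, U)) : (a + b) ^ p = a ^ p + b ^ p :=
  map_add (FrobSch.powHom p Γ(X, U) (FrobSch.natCast_eq_zero_app X p U)) a b

theorem powSec_add {L : X.Modules} (hL : PicF.IsInvertible L) {U : X.Opens} (s t : Γ(L, U)) :
    powSec (s + t) p = powSec s p + powSec t p := by
  refine eq_of_locally _ fun x hx => ?_
  obtain ⟨V, hxV, e, he⟩ := (isInvertible_iff.1 hL) x
  have he' := he.mono (inf_le_right : U ⊓ V ≤ V)
  refine ⟨U ⊓ V, inf_le_left, ⟨hx, hxV⟩, ?_⟩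
  rw [res_powSec, res_add, res_add, res_powSec, res_powSec]
  obtain ⟨a, ha⟩ := he'.exists_eq' (res L inf_le_left s)
  obtain ⟨b, hb⟩ := he'.exists_eq' (res L inf_le_left t)
  rw [← ha, ← hb, ← add_smul, powSec_smul, powSec_smul, powSec_smul, ← add_smul,
    add_pow_char_app]

/-- `L → F_*(L^{⊗p})`, `s ↦ s^{⊗p}` -/
noncomputable def powHom {L : X.Modules} (hL : PicF.IsInvertible L) :
    L ⟶ (Scheme.Modules.pushforward (FrobSch.frob X p)).obj (CohB1.tensorPow L p) :=
  mkHom (M := L) (N := (Scheme.Modules.pushforward (FrobSch.frob X p)).obj (CohB1.tensorPow L p))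
    (fun U =>
      { toFun := fun s => (show Γ((Scheme.Modules.pushforward (FrobSch.frob X p)).obj
            (CohB1.tensorPow L p), U) from powSec s p)
        map_add' := fun a b => powSec_add p hL a b
        map_smul' := fun a b => powSec_smul a b p })
    (fun _ _ i s => res_powSec i.le s p)

theorem powHom_app {L : X.Modules} (hL : PicF.IsInvertible L) {U : X.Opens} (s : Γ(L, U)) :
    (powHom p hL).app U s = (show Γ((Scheme.Modules.pushforward (FrobSch.frob X p)).obj
            (CohB1.tensorPow L p), U) from powSec s p) := rfl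

/-- `F^* L → L^{⊗p}` -/
noncomputable def powHom' {L : X.Modules} (hL : PicF.IsInvertible L) :
    (Scheme.Modules.pullback (FrobSch.frob X p)).obj L ⟶ CohB1.tensorPow L p :=
  ((Scheme.Modules.pullbackPushforwardAdjunction (FrobSch.frob X p)).homEquiv _ _).symm
    (powHom p hL)

theorem powHom'_pullSec {L : X.Modules} (hL : PicF.IsInvertible L) {U : X.Opens} (s : Γ(L, U)) :
    (powHom' p hL).app (FrobSch.frob X p ⁻¹ᵁ U) (Fdesc.LocGen.pullSec (FrobSch.frob X p) s) =
      (show Γ(CohB1.tensorPow L p, FrobSch.frob X p ⁻¹ᵁ U) from powSec s p) := by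
  rw [← Fdesc.LocGen.homEquiv_app, powHom', Equiv.apply_symm_apply]
  rfl

instance isIso_powHom' {L : X.Modules} (hL : PicF.IsInvertible L) : IsIso (powHom' p hL) := by
  apply VarietyB.LiftInvFinal.isIso_of_isGen
  intro x
  obtain ⟨V, hxV, e, he⟩ := (isInvertible_iff.1 hL) x
  refine ⟨FrobSch.frob X p ⁻¹ᵁ V, Fdesc.LocGen.pullSec (FrobSch.frob X p) e, hxV,
    Fdesc.LocGen.IsGen.pullSec _ he, ?_⟩
  rw [powHom'_pullSec]
  exact isGen_powSec he p

/-- `F^* L ≅ L^{⊗p}` -/
noncomputable def powIso {L : X.Modules} (hL : PicF.IsInvertible L) :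
    (Scheme.Modules.pullback (FrobSch.frob X p)).obj L ≅ CohB1.tensorPow L p :=
  asIso (powHom' p hL)

end K850.FrobPow
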