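import Groth.Prelude.Def_Frob
import Groth.Prelude.Def_Pi1
import Groth.Agent.S2148
import Groth.Agent.FormalA.ThickSurj
import Groth.Agent.CurvesB.OmegaStalkDict
import Mathlib.AlgebraicGeometry.FunctionField

/-!
# The sequence `0 → O → F_* O → F_* Ω` on a normal scheme over a perfect field of characteristic `p`
-/

set_option autoImplicit false
universe u
open CategoryTheory CategoryTheory.Limits AlgebraicGeometry Opposite TopologicalSpace

namespace K850.FrobSeq

open Groth.Agent Groth.Agent.Ega2.Tens

section algebra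

theorem exists_pow_eq {k A : Type u} [Field k] [CommRing A] [Algebra k A] (p : ℕ) [Fact p.Prime]
    [CharP k p] [PerfectRing k p] [IsDomain A] [IsIntegrallyClosed A] (a : A)
    (ha : KaehlerDifferential.D k A a = 0) : ∃ b : A, b ^ p = a := by
  let K := FractionRing A
  have h1 : KaehlerDifferential.D k K (algebraMap A K a) = 0 := by
    rw [← KaehlerDifferential.map_D k k A K a, ha, map_zero]
  obtain ⟨b, hb⟩ := (S2148.result p (algebraMap A K a)).mp h1
  obtain ⟨c, hc⟩ := IsIntegrallyClosed.exists_algebraMap_eq_of_isIntegral_pow (R := A) (K := K)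
    (x := b) (n := p) (Fact.out : p.Prime).pos (by rw [hb]; exact isIntegral_algebraMap)
  refine ⟨c, ?_⟩
  apply IsFractionRing.injective A K
  rw [map_pow, hc, hb]

end algebra

variable {k : Type u} [Field k] (p : ℕ) [Fact p.Prime] {X : Scheme.{u}}
  (f : X ⟶ Spec (CommRingCat.of k)) [QuasiCompact (pullback.diagonal f)] [FrobSch.IsCharP X p]

open CurvesB.OmegaDer CurvesB.OmegaStalkDict

theorem d_pow_p (W : X.Opens) (s : Γ(X, W)) : d f W (s ^ p) = 0 := by
  let _ := secAlg f W
  let _ := secMod f (Omega.sheaf f) W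
  have _ := secTower f (Omega.sheaf f) W
  have h := (secDer f W).leibniz_pow s p
  have h0 : ∀ t : Γ(Omega.sheaf f, W), p • t = 0 := fun t => by
    rw [← Nat.cast_smul_eq_nsmul Γ(X, W), FrobSch.natCast_eq_zero_app, zero_smul]
  rw [h0] at h
  exact h

/-- `F_* d : F_* O → F_* Ω`. -/
noncomputable def frobD :
    (Scheme.Modules.pushforward (FrobSch.frob X p)).obj (Coh.structureModule X) ⟶
      (Scheme.Modules.pushforward (FrobSch.frob X p)).obj (Omega.sheaf f) :=
  mkHom (M := (Scheme.Modules.pushforward (FrobSch.frob X p)).obj (Coh.structureModule X))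
    (N := (Scheme.Modules.pushforward (FrobSch.frob X p)).obj (Omega.sheaf f))
    (fun U =>
      { toFun := fun s => (show Γ((Scheme.Modules.pushforward (FrobSch.frob X p)).obj
            (Omega.sheaf f), U) from d f U (show Γ(X, U) from s))
        map_add' := fun a b => map_add (d f U) _ _
        map_smul' := fun a b => by
          change d f U ((show Γ(X, U) from a) ^ p * (show Γ(X, U) from b)) =
            ((show Γ(X, U) from a) ^ p) • d f U (show Γ(X, U) from b)
          rw [d_mul, d_pow_p, smul_zero, add_zero] })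
    (fun U V i s => d_res f i.le _)

theorem frobD_app (U : X.Opens) (s : Γ(X, U)) :
    (frobD p f).app U (show Γ((Scheme.Modules.pushforward (FrobSch.frob X p)).obj
      (Coh.structureModule X), U) from sm s) =
      (show Γ((Scheme.Modules.pushforward (FrobSch.frob X p)).obj (Omega.sheaf f), U) from
        d f U s) := rfl

theorem qmap_frobD : FormalA.ThickSurj.qmap (FrobSch.frob X p) ≫ frobD p f = 0 := by
  refine Scheme.Modules.hom_ext _ _ fun U => ?_
  ext s
  exact d_pow_p p f U s

/-- a function with vanishing differential is locally a `p`-th power -/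
theorem exists_root [CharP k p] [PerfectRing k p] (hX : Pi1.IsNormalScheme X) (U : X.Opens)
    (s : Γ(X, U)) (hs : d f U s = 0) (x : X) (hx : x ∈ U) :
    ∃ (V : X.Opens) (h : V ≤ U), x ∈ V ∧ ∃ t : Γ(X, V), t ^ p = X.presheaf.map (homOfLE h).op s := by
  have h1 : dSt f x (X.presheaf.germ U x hx s) = 0 := by rw [dSt_germ, hs, map_zero]
  let _ := stAlg f x
  let _ := stMod f (Omega.sheaf f) x
  have _ := stTower f (Omega.sheaf f) x
  have h2 : (stDer f x).liftKaehlerDifferential
      (KaehlerDifferential.D k (X.presheaf.stalk x) (X.presheaf.germ U x hx s)) = 0 := by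
    rw [Derivation.liftKaehlerDifferential_comp_D]
    exact h1
  have h3 : KaehlerDifferential.D k (X.presheaf.stalk x) (X.presheaf.germ U x hx s) = 0 :=
    (bijective_stDer f x).1 (h2.trans (map_zero _).symm)
  obtain ⟨hd, hi⟩ := hX x
  obtain ⟨b, hb⟩ := exists_pow_eq (k := k) p (X.presheaf.germ U x hx s) h3
  obtain ⟨W, hxW, t, rfl⟩ := TopCat.Presheaf.exists_germ_eq X.presheaf b
  rw [← map_pow] at hb
  obtain ⟨V, hxV, i, j, h⟩ := X.presheaf.germ_eq x hxW hx (t ^ p) s hb
  refine ⟨V, j.le, hxV, X.presheaf.map i.op t, ?_⟩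
  rw [← map_pow]
  exact h

theorem mono_qmap [IsReduced X] : Mono (FormalA.ThickSurj.qmap (FrobSch.frob X p)) := by
  refine VarietyB.ExactLoc.mono_of_stalk _ fun x => ?_
  rw [injective_iff_map_eq_zero]
  intro t ht
  obtain ⟨U, hx, s, rfl⟩ := TopCat.Presheaf.exists_germ_eq
    (Coh.structureModule X).presheaf t
  rw [CycB.StalkExact.stalkLin_germ] at ht
  obtain ⟨V, h, hxV, h0⟩ := VarietyB.ExactLoc.exists_res_eq_zero _ hx _ ht
  have h1 : (X.presheaf.map (homOfLE h).op (show Γ(X, U) from s)) ^ p = 0 := by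
    rw [← map_pow]
    exact h0
  have h2 : X.presheaf.map (homOfLE h).op (show Γ(X, U) from s) = 0 :=
    pow_eq_zero_iff (Fact.out : p.Prime).ne_zero |>.mp h1
  have h3 := VarietyB.ExactLoc.germ_res (Coh.structureModule X) h hxV s
  rw [← h3]
  have h4 : VarietyB.TensLoc.res (Coh.structureModule X) h s = 0 := h2
  rw [h4, map_zero]

/-- `O → F_* O → F_* Ω` is exact. -/
theorem exact_seq [CharP k p] [PerfectRing k p] (hX : Pi1.IsNormalScheme X) :
    (ShortComplex.mk (FormalA.ThickSurj.qmap (FrobSch.frob X p)) (frobD p f)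
      (qmap_frobD p f)).Exact := by
  apply Sga67.Sec.exact_of_locally
  intro U s hs x hx
  obtain ⟨V, h, hxV, t, ht⟩ := exists_root p f hX U s hs x hx
  exact ⟨V, h, hxV, t, ht⟩

end K850.FrobSeq
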