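import Groth.Agent.KodV.K850.FrobInj
import Groth.Agent.KodV.K850.FrobPow
import Groth.Agent.CohtopA.PushClosed
import Groth.Agent.Fga.PicMon
import Groth.Agent.CohqB.SerLocFib

/-!
# Descending vanishing of `H¹` along Frobenius
-/

set_option autoImplicit false
universe u
open CategoryTheory CategoryTheory.Limits AlgebraicGeometry Opposite TopologicalSpace

namespace K850.FrobVan

open Groth.Agent Groth.Agent.Ega2.Tens Groth.Agent.CohqB Groth.Agent.Fga.PicMon

variable (p : ℕ) [Fact p.Prime] {X : Scheme.{u}} [FrobSch.IsCharP X p]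

theorem isClosedEmbedding_frob : Topology.IsClosedEmbedding (FrobSch.frob X p).base := by
  have h : ((FrobSch.frob X p).base : X → X) = id := rfl
  rw [h]
  exact Topology.IsClosedEmbedding.id

theorem subsingleton_push_frob (M : X.Modules) (n : ℕ) (h : Subsingleton (Coh.HH X M n)) :
    Subsingleton (Coh.HH X ((Scheme.Modules.pushforward (FrobSch.frob X p)).obj M) n) := by
  have h1 := CohtopA.PushClosed.preservesFiniteColimits_push_of_isClosedEmbedding
    (FrobSch.frob X p).base (isClosedEmbedding_frob p)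
  have e := CohtopA.PushClosed.HPushEquiv (FrobSch.frob X p).base (Coh.toAb M) n
  have h2 : Subsingleton (CohTop.H (Coh.toAb M) n) := h
  exact e.symm.toEquiv.subsingleton

theorem subsingleton_tensor_of_iso {M M' N : X.Modules} (e : Nonempty (M ≅ M')) (n : ℕ)
    (h : Subsingleton (Coh.HH X (CohB1.tensorMod M' N) n)) :
    Subsingleton (Coh.HH X (CohB1.tensorMod M N) n) := by
  have h1 : mc (CohB1.tensorMod M N) = mc (CohB1.tensorMod M' N) := by
    rw [mc_tensor, mc_tensor, (mc_eq_iff _ _).2 e]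
  obtain ⟨e'⟩ := (mc_eq_iff _ _).1 h1
  exact SerLocFib.subsingleton_HH_of_iso e' n h

/-- `H¹(E) = 0` if `H⁰(E^p ⊗ Ω) = 0` and `H¹(E^p) = 0`. -/
theorem subsingleton_H1 {k : Type u} [Field k] (f : X ⟶ Spec (CommRingCat.of k))
    [QuasiCompact (pullback.diagonal f)] [CharP k p] [PerfectRing k p] [IsReduced X]
    (hX : Pi1.IsNormalScheme X) (E : X.Modules) (hE : PicF.IsInvertible E)
    (h0 : Subsingleton (Coh.HH X (CohB1.tensorMod (CohB1.tensorPow E p) (Omega.sheaf f)) 0))
    (h1 : Subsingleton (Coh.HH X (CohB1.tensorPow E p) 1)) :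
    Subsingleton (Coh.HH X E 1) := by
  have hE' := FormalA.ThickSurj.isFinLocFree_of_isInvertible hE
  have h2 := FrobInj.injective_unit p f hX E hE'
    (subsingleton_tensor_of_iso ⟨FrobPow.powIso p hE⟩ 0 h0)
  have h3 := subsingleton_push_frob p _ 1
    (SerLocFib.subsingleton_HH_of_iso (FrobPow.powIso p hE) 1 h1)
  exact ⟨fun a b => h2 (h3.elim _ _)⟩

end K850.FrobVan
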